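import Cfsg.Agent.H264.CD

/-!
# Centrally large subgroups and large abelian subgroups (helper264)

`G` is any finite group, `Q` a centrally large subgroup, `A` an abelian subgroup of largest order.

* `MA.centralizer_eq` : `C(A) = A`;
* `MA.main` : `QA = AQ` is centrally large, `(Q ∩ A) Z(Q)` is again a large abelian subgroup;
* `MA.inf_centralizer` : `QA ∩ C(Q ∩ A) = Z(Q) A`;
* `thompson_le` : `C(Z(J(G)))` lies in `Q J(G)`, for every centrally large `Q`.
-/

set_option autoImplicit false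

open scoped Pointwise commutatorElement
open Cfsg

namespace Cfsg.Agent.H264.CD

variable {G : Type*} [Group G]

set_option linter.unusedSectionVars false

local notation "C(" H ")" => Subgroup.centralizer ((H : Subgroup G) : Set G)

/-- commutative subgroups lie in their centralizer -/
theorem isMulCommutative_iff (H : Subgroup G) : IsMulCommutative H ↔ H ≤ C(H) := by
  rw [Subgroup.le_centralizer_iff_isMulCommutative]

theorem comm_of_le {H : Subgroup G} (h : H ≤ C(H)) {x y : G} (hx : x ∈ H) (hy : y ∈ H) : x * y = y * x :=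
  (Subgroup.mem_centralizer_iff.mp (h hy)) x hx

/-- the join of two commuting abelian subgroups is abelian -/
theorem sup_le_centralizer {H K : Subgroup G} (hH : H ≤ C(H)) (hK : K ≤ C(K)) (h : H ≤ C(K)) :
    H ⊔ K ≤ C(H ⊔ K) := by
  rw [centralizer_sup]
  exact le_inf (sup_le hH (Subgroup.le_centralizer_iff.mp h)) (sup_le h hK)

namespace MA

variable [Finite G] {A : Subgroup G}

theorem le_cent (hA : A ∈ maxAbelianSubgroups G) : A ≤ C(A) := (isMulCommutative_iff A).mp hA.1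

theorem card_le (hA : A ∈ maxAbelianSubgroups G) {B : Subgroup G} (hB : B ≤ C(B)) :
    Nat.card B ≤ Nat.card A := hA.2 B ((isMulCommutative_iff B).mpr hB)

theorem mk_of {B : Subgroup G} (hA : A ∈ maxAbelianSubgroups G) (hB : B ≤ C(B))
    (h : Nat.card A ≤ Nat.card B) : B ∈ maxAbelianSubgroups G :=
  ⟨(isMulCommutative_iff B).mpr hB, fun D hD => (hA.2 D hD).trans h⟩

theorem exists_mem : ∃ A : Subgroup G, A ∈ maxAbelianSubgroups G := by
  obtain ⟨m, hm, hmax⟩ := (Set.toFinite {A : Subgroup G | A ≤ C(A)}).exists_maximalFor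
    (fun A : Subgroup G => Nat.card A) {A : Subgroup G | A ≤ C(A)} ⟨(⊥ : Subgroup G), (bot_le : (⊥ : Subgroup G) ≤ C(⊥))⟩
  refine ⟨m, (isMulCommutative_iff m).mpr hm, fun B hB => ?_⟩
  by_contra hc
  push Not at hc
  exact absurd (hmax ((isMulCommutative_iff B).mp hB) hc.le) (not_le.mpr hc)

theorem centralizer_eq (hA : A ∈ maxAbelianSubgroups G) : C(A) = A := by
  refine le_antisymm (fun x hx => ?_) (le_cent hA)
  have h1 : A ⊔ Subgroup.zpowers x ≤ C(A ⊔ Subgroup.zpowers x) := by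
    refine sup_le_centralizer (le_cent hA) ?_ ?_
    · rw [← isMulCommutative_iff]
      infer_instance
    · rw [← Subgroup.le_centralizer_iff]
      rw [Subgroup.zpowers_le]
      exact hx
  have h2 := card_le hA h1
  have h3 : A = A ⊔ Subgroup.zpowers x := Subgroup.eq_of_le_of_card_ge le_sup_left h2
  rw [h3]
  exact Subgroup.mem_sup_right (Subgroup.mem_zpowers x)

variable {Q : Subgroup G}

/-- the big equality -/
theorem main (hQ : IsCentrallyLarge Q) (hA : A ∈ maxAbelianSubgroups G) :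
    IsCentrallyLarge (Q ⊔ A) ∧ ((Q ⊔ A : Subgroup G) : Set G) = (Q : Set G) * (A : Set G) ∧
      (Q ⊓ A) ⊔ C(Q) ∈ maxAbelianSubgroups G := by
  obtain ⟨hQ1, hQ2⟩ := (isCentrallyLarge_iff Q).mp hQ
  have hCQ : C(Q) ≤ C(C(Q)) := hQ2.trans (le_cc Q)
  have hAA := le_cent hA
  have hB : (Q ⊓ A) ⊔ C(Q) ≤ C((Q ⊓ A) ⊔ C(Q)) := by
    refine sup_le_centralizer ?_ hCQ ?_
    · exact inf_le_right.trans (hAA.trans (Subgroup.centralizer_le (SetLike.coe_subset_coe.mpr inf_le_right)))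
    · exact inf_le_left.trans (le_cc Q)
  have e1 := card_mul_card_le (Q ⊓ A) (C(Q))
  have e2 : (Q ⊓ A) ⊓ C(Q) = A ⊓ C(Q) := by
    rw [inf_comm Q A, inf_assoc, inf_eq_right.mpr hQ2]
  rw [e2] at e1
  have e3 := card_le hA hB
  have e4 := card_mul_card_le Q A
  have e5 := meas_le (Q ⊔ A)
  rw [centralizer_sup, centralizer_eq hA, inf_comm (C(Q)) A] at e5
  have e6 : Nat.card Q * Nat.card (C(Q)) = maxCentralizerProduct G := hQ1
  have p1 := card_pos (Q ⊓ A)
  have p2 := card_pos (A ⊓ C(Q))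
  have p3 := card_pos Q
  -- f |Q ∩ A| ≤ |Q| |B| |A ∩ C(Q)| ≤ |Q| |A| |A ∩ C(Q)| ≤ |Q ⊔ A| |Q ∩ A| |A ∩ C(Q)| ≤ f |Q ∩ A|
  have s1 : maxCentralizerProduct G * Nat.card (Q ⊓ A : Subgroup G) ≤
      Nat.card Q * Nat.card ((Q ⊓ A) ⊔ C(Q) : Subgroup G) * Nat.card (A ⊓ C(Q) : Subgroup G) := by
    rw [← e6]
    calc _ = Nat.card Q * (Nat.card (Q ⊓ A : Subgroup G) * Nat.card (C(Q))) := by ring
      _ ≤ Nat.card Q * (Nat.card ((Q ⊓ A) ⊔ C(Q) : Subgroup G) * Nat.card (A ⊓ C(Q) : Subgroup G)) :=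
        Nat.mul_le_mul_left _ e1
      _ = _ := by ring
  have s2 : Nat.card Q * Nat.card ((Q ⊓ A) ⊔ C(Q) : Subgroup G) * Nat.card (A ⊓ C(Q) : Subgroup G) ≤
      Nat.card Q * Nat.card A * Nat.card (A ⊓ C(Q) : Subgroup G) :=
    Nat.mul_le_mul_right _ (Nat.mul_le_mul_left _ e3)
  have s3 : Nat.card Q * Nat.card A * Nat.card (A ⊓ C(Q) : Subgroup G) ≤
      Nat.card (Q ⊔ A : Subgroup G) * Nat.card (Q ⊓ A : Subgroup G) * Nat.card (A ⊓ C(Q) : Subgroup G) :=
    Nat.mul_le_mul_right _ e4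
  have s4 : Nat.card (Q ⊔ A : Subgroup G) * Nat.card (Q ⊓ A : Subgroup G) *
      Nat.card (A ⊓ C(Q) : Subgroup G) ≤ maxCentralizerProduct G * Nat.card (Q ⊓ A : Subgroup G) := by
    calc _ = (Nat.card (Q ⊔ A : Subgroup G) * Nat.card (A ⊓ C(Q) : Subgroup G)) *
        Nat.card (Q ⊓ A : Subgroup G) := by ring
      _ ≤ _ := Nat.mul_le_mul_right _ e5
  have t1 := le_antisymm s4 (s1.trans (s2.trans s3))
  have t2 := le_antisymm s3 (s4.trans (s1.trans s2))
  have t3 := le_antisymm s2 (s3.trans (s4.trans s1))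
  refine ⟨?_, ?_, ?_⟩
  · rw [isCentrallyLarge_iff]
    refine ⟨?_, ?_⟩
    · unfold IsCentralizerLarge
      rw [centralizer_sup, centralizer_eq hA, inf_comm (C(Q)) A]
      apply Nat.eq_of_mul_eq_mul_right p1
      rw [← t1]
      ring
    · rw [centralizer_sup]
      exact inf_le_left.trans (hQ2.trans le_sup_left)
  · apply sup_eq_mul_of_card
    exact (Nat.eq_of_mul_eq_mul_right p2 t2).ge
  · refine mk_of hA hB ?_
    have := Nat.eq_of_mul_eq_mul_right p2 t3
    exact (Nat.eq_of_mul_eq_mul_left p3 this).ge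

theorem inf_centralizer_inf (hQ : IsCentrallyLarge Q) (hA : A ∈ maxAbelianSubgroups G) :
    Q ⊓ C(Q ⊓ A) = (Q ⊓ A) ⊔ C(Q) := by
  have h := centralizer_eq (main hQ hA).2.2
  rw [centralizer_sup, CL.cc ((isCentrallyLarge_iff Q).mp hQ).1, inf_comm] at h
  exact h

theorem mem_iff (hQ : IsCentrallyLarge Q) (hA : A ∈ maxAbelianSubgroups G) {x : G}
    (hx : x ∈ Q ⊔ A) (hx' : x ∈ C(Q ⊓ A)) : ∃ c ∈ C(Q), ∃ a ∈ A, c * a = x := by
  obtain ⟨hQ1, hQ2⟩ := (isCentrallyLarge_iff Q).mp hQ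
  rw [← SetLike.mem_coe, (main hQ hA).2.1] at hx
  obtain ⟨q, hq, a, ha, rfl⟩ := hx
  have ha' : a ∈ C(Q ⊓ A) :=
    (le_cent hA).trans (Subgroup.centralizer_le (SetLike.coe_subset_coe.mpr inf_le_right)) ha
  have hq' : q ∈ Q ⊓ C(Q ⊓ A) := ⟨hq, by
    have := mul_mem hx' (inv_mem ha')
    simpa using this⟩
  rw [inf_centralizer_inf hQ hA] at hq'
  have h2 : ((Q ⊓ A) ⊔ C(Q) : Subgroup G) ≤ C(Q) ⊔ (Q ⊓ A) := by rw [sup_comm]
  have hcomm : C(Q) ≤ Subgroup.normalizer ((Q ⊓ A : Subgroup G) : Set G) :=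
    (Subgroup.centralizer_le (SetLike.coe_subset_coe.mpr inf_le_left)).trans
      (Subgroup.centralizer_le_normalizer _)
  have h3 : q ∈ ((C(Q) ⊔ (Q ⊓ A) : Subgroup G) : Set G) := h2 hq'
  rw [Subgroup.coe_mul_of_left_le_normalizer_right _ _ hcomm] at h3
  obtain ⟨c, hc, b, hb, rfl⟩ := h3
  exact ⟨c, hc, b * a, mul_mem hb.2 ha, by simp [mul_assoc]⟩

theorem inf_centralizer (hQ : IsCentrallyLarge Q) (hA : A ∈ maxAbelianSubgroups G) :
    (Q ⊔ A) ⊓ C(Q ⊓ A) = C(Q) ⊔ A := by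
  obtain ⟨hQ1, hQ2⟩ := (isCentrallyLarge_iff Q).mp hQ
  apply le_antisymm
  · rintro x ⟨hx, hx'⟩
    obtain ⟨c, hc, a, ha, rfl⟩ := mem_iff hQ hA hx hx'
    exact mul_mem (Subgroup.mem_sup_left hc) (Subgroup.mem_sup_right ha)
  · refine sup_le (le_inf (hQ2.trans le_sup_left) ?_) (le_inf le_sup_right ?_)
    · exact Subgroup.centralizer_le (SetLike.coe_subset_coe.mpr inf_le_left)
    · exact (le_cent hA).trans (Subgroup.centralizer_le (SetLike.coe_subset_coe.mpr inf_le_right))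

theorem centralizer_sup_eq_mul (hQ : IsCentrallyLarge Q) (hA : A ∈ maxAbelianSubgroups G) :
    ((C(Q) ⊔ A : Subgroup G) : Set G) = (C(Q) : Set G) * (A : Set G) := by
  apply Set.Subset.antisymm
  · intro x hx
    rw [← inf_centralizer hQ hA] at hx
    obtain ⟨c, hc, a, ha, rfl⟩ := mem_iff hQ hA hx.1 hx.2
    exact ⟨c, hc, a, ha, rfl⟩
  · exact mul_subset_sup _ _

end MA

section Thompson

variable [Finite G]

/-- `A ≤ centrallyLargeJoin` -/
theorem thompson_le_join : thompsonSubgroupA G ≤ centrallyLargeJoin G :=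
  sSup_le fun A hA => (le_sup_right : A ≤ centrallyLargeJoin G ⊔ A).trans
    (le_sSup (MA.main isCentrallyLarge_join hA).1)

/-- adding large abelian subgroups keeps a subgroup centrally large -/
theorem sup_thompson {Q : Subgroup G} (hQ : IsCentrallyLarge Q) :
    IsCentrallyLarge (Q ⊔ thompsonSubgroupA G) := by
  have h1 : Q ⊔ thompsonSubgroupA G = sSup {R : Subgroup G | ∃ A ∈ maxAbelianSubgroups G, R = Q ⊔ A} := by
    apply le_antisymm
    · obtain ⟨A, hA⟩ := MA.exists_mem (G := G)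
      refine sup_le ((le_sup_left : Q ≤ Q ⊔ A).trans (le_sSup ⟨A, hA, rfl⟩)) (sSup_le fun A hA => ?_)
      exact (le_sup_right : A ≤ Q ⊔ A).trans (le_sSup ⟨A, hA, rfl⟩)
    · refine sSup_le ?_
      rintro _ ⟨A, hA, rfl⟩
      exact sup_le_sup_left (le_sSup hA : A ≤ thompsonSubgroupA G) Q
  rw [h1]
  refine Cent.sSup_mem ?_ ?_
  · obtain ⟨A, hA⟩ := MA.exists_mem (G := G)
    exact ⟨_, A, hA, rfl⟩
  · rintro _ ⟨A, hA, rfl⟩
    exact (MA.main hQ hA).1

/-- if `R` is centrally large and contains `J(G)` then it contains `C(Z(J(G)))`. -/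
theorem centralizer_le_of_thompson_le {R : Subgroup G} (hR : IsCentrallyLarge R)
    (h : thompsonSubgroupA G ≤ R) :
    C(thompsonSubgroupA G ⊓ C(thompsonSubgroupA G)) ≤ R := by
  obtain ⟨hR1, hR2⟩ := (isCentrallyLarge_iff R).mp hR
  have h1 : C(R) ≤ thompsonSubgroupA G ⊓ C(thompsonSubgroupA G) := by
    refine le_inf ?_ (Subgroup.centralizer_le (SetLike.coe_subset_coe.mpr h))
    obtain ⟨A, hA⟩ := MA.exists_mem (G := G)
    refine le_trans ?_ (le_sSup hA)
    have h2 : A ≤ R := (le_sSup hA).trans h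
    exact (Subgroup.centralizer_le (SetLike.coe_subset_coe.mpr h2)).trans (MA.centralizer_eq hA).le
  calc C(thompsonSubgroupA G ⊓ C(thompsonSubgroupA G)) ≤ C(C(R)) :=
        Subgroup.centralizer_le (SetLike.coe_subset_coe.mpr h1)
    _ = R := CL.cc hR1

theorem thompson_le {Q : Subgroup G} (hQ : IsCentrallyLarge Q) :
    C(thompsonSubgroupA G ⊓ C(thompsonSubgroupA G)) ≤ Q ⊔ thompsonSubgroupA G :=
  centralizer_le_of_thompson_le (sup_thompson hQ) le_sup_right

end Thompson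

/-! ### Minimal centrally large subgroups -/

section Min

variable [Finite G]

theorem min_cl {Q : Subgroup G} (hQ : IsMinimalCentrallyLarge Q) : IsCentralizerLarge Q :=
  ((isCentrallyLarge_iff Q).mp hQ.1).1

theorem min_le {Q : Subgroup G} (hQ : IsMinimalCentrallyLarge Q) : C(Q) ≤ Q :=
  ((isCentrallyLarge_iff Q).mp hQ.1).2

/-- `Q = (Q ∩ R) Z(Q)` -/
theorem min_eq {Q R : Subgroup G} (hQ : IsMinimalCentrallyLarge Q) (hR : IsMinimalCentrallyLarge R) :
    (Q ⊓ R) ⊔ C(Q) = Q := by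
  have h1 := CL.inf (min_cl hQ) (min_cl hR)
  have h2 := CL.centralizer (min_cl hQ)
  refine hQ.2 _ (sup_le inf_le_left (min_le hQ)) ?_
  rw [isCentrallyLarge_iff]
  refine ⟨CL.sup h1 h2, ?_⟩
  rw [centralizer_sup, CL.cc (min_cl hQ), CL.centralizer_inf (min_cl hQ) (min_cl hR)]
  rintro x ⟨hx, hxQ⟩
  obtain ⟨a, ha, b, hb, rfl⟩ := (CL.mem_sup h2 (CL.centralizer (min_cl hR))).mp hx
  have hb2 : b ∈ Q := by
    have := mul_mem (inv_mem (min_le hQ ha)) hxQ
    simpa using this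
  exact mul_mem (Subgroup.mem_sup_right ha) (Subgroup.mem_sup_left ⟨hb2, min_le hR hb⟩)

/-- `Q' = (Q ∩ R)'` -/
theorem commutator_eq {Q R : Subgroup G} (hQ : IsMinimalCentrallyLarge Q) (hR : IsMinimalCentrallyLarge R) :
    ⁅Q, Q⁆ = ⁅Q ⊓ R, Q ⊓ R⁆ := by
  have hQR := min_eq hQ hR
  have h1 := CL.inf (min_cl hQ) (min_cl hR)
  have h2 := CL.centralizer (min_cl hQ)
  apply le_antisymm
  · rw [Subgroup.commutator_le]
    intro x hx y hy
    rw [← hQR] at hx hy
    obtain ⟨a, ha, b, hb, rfl⟩ := (CL.mem_sup h1 h2).mp hx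
    obtain ⟨c, hc, d, hd, rfl⟩ := (CL.mem_sup h1 h2).mp hy
    have k1 : ∀ z ∈ Q, b * z = z * b := fun z hz => ((Subgroup.mem_centralizer_iff.mp hb) z hz).symm
    have k2 : ∀ z ∈ Q, d * z = z * d := fun z hz => ((Subgroup.mem_centralizer_iff.mp hd) z hz).symm
    have e : ⁅a * b, c * d⁆ = ⁅a, c⁆ := by
      have hbQ := min_le hQ hb
      have hdQ := min_le hQ hd
      have e1 : a * b * (c * d) = (a * c) * (b * d) := by
        rw [mul_assoc, ← mul_assoc b c, k1 c hc.1]; simp [mul_assoc]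
      have e2 : c * d * (a * b) = (c * a) * (b * d) := by
        rw [mul_assoc, ← mul_assoc d a, k2 a ha.1, k1 d hdQ]; simp [mul_assoc]
      rw [commutatorElement_def, commutatorElement_def]
      rw [show a * b * (c * d) * (a * b)⁻¹ * (c * d)⁻¹ = (a * b * (c * d)) * (c * d * (a * b))⁻¹ by
        simp only [mul_inv_rev, mul_assoc], e1, e2]
      simp [mul_assoc]
    rw [e]
    exact Subgroup.commutator_mem_commutator ha hc
  · exact Subgroup.commutator_mono inf_le_left inf_le_left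

theorem commutator_eq' {Q R : Subgroup G} (hQ : IsMinimalCentrallyLarge Q) (hR : IsMinimalCentrallyLarge R) :
    ⁅Q, Q⁆ = ⁅R, R⁆ := by
  rw [commutator_eq hQ hR, commutator_eq hR hQ, inf_comm]

/-- `R ∩ Z(Q) ≤ Z(R)` -/
theorem inf_cent_le {Q R : Subgroup G} (hQ : IsMinimalCentrallyLarge Q) (hR : IsMinimalCentrallyLarge R) :
    R ⊓ C(Q) ≤ C(R) := by
  intro x hx
  have h : C((R ⊓ Q) ⊔ C(R)) = C(R) := by rw [min_eq hR hQ]
  rw [← h, centralizer_sup]
  refine ⟨?_, le_cc R hx.1⟩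
  exact Subgroup.centralizer_le (SetLike.coe_subset_coe.mpr inf_le_right) hx.2

theorem card_min_eq {Q R : Subgroup G} (hQ : IsMinimalCentrallyLarge Q) (hR : IsMinimalCentrallyLarge R) :
    Nat.card Q = Nat.card R ∧ Nat.card (C(Q)) = Nat.card (C(R)) := by
  have key : ∀ {Q R : Subgroup G} (_ : IsMinimalCentrallyLarge Q) (_ : IsMinimalCentrallyLarge R),
      Nat.card Q * Nat.card (C(Q) ⊓ C(R) : Subgroup G) = Nat.card (Q ⊓ R : Subgroup G) * Nat.card (C(Q)) := by
    intro Q R hQ hR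
    have h1 := CL.card_sup (CL.inf (min_cl hQ) (min_cl hR)) (CL.centralizer (min_cl hQ))
    rw [min_eq hQ hR] at h1
    have h2 : Q ⊓ R ⊓ C(Q) = C(Q) ⊓ C(R) := by
      apply le_antisymm
      · exact le_inf inf_le_right ((inf_le_inf_right _ inf_le_right).trans (inf_cent_le hQ hR))
      · exact le_inf (le_inf (inf_le_left.trans (min_le hQ)) (inf_le_right.trans (min_le hR))) inf_le_left
    rw [h2] at h1
    exact h1
  have k1 := key hQ hR
  have k2 := key hR hQ
  have k3 : Nat.card Q * Nat.card (C(Q)) = Nat.card R * Nat.card (C(R)) := by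
    have a := min_cl hQ
    have b := min_cl hR
    unfold IsCentralizerLarge at a b
    rw [a, b]
  rw [inf_comm R Q, inf_comm (C(R)) (C(Q))] at k2
  have p1 := card_pos (C(Q))
  have p2 := card_pos (C(R))
  have p3 := card_pos (C(Q) ⊓ C(R))
  have p4 := card_pos (Q ⊓ R)
  have p5 := card_pos Q
  have p6 := card_pos R
  -- |Q| z = i |Z(Q)|, |R| z = i |Z(R)|
  have k4 : Nat.card Q * Nat.card (C(R)) = Nat.card R * Nat.card (C(Q)) := by
    apply Nat.eq_of_mul_eq_mul_right p3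
    calc Nat.card Q * Nat.card (C(R)) * Nat.card (C(Q) ⊓ C(R) : Subgroup G)
        = (Nat.card Q * Nat.card (C(Q) ⊓ C(R) : Subgroup G)) * Nat.card (C(R)) := by ring
      _ = (Nat.card R * Nat.card (C(Q) ⊓ C(R) : Subgroup G)) * Nat.card (C(Q)) := by rw [k1, k2]; ring
      _ = _ := by ring
  have k5 : Nat.card Q * Nat.card Q = Nat.card R * Nat.card R := by
    apply Nat.eq_of_mul_eq_mul_right (Nat.mul_pos p1 p2)
    calc Nat.card Q * Nat.card Q * (Nat.card (C(Q)) * Nat.card (C(R)))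
        = (Nat.card Q * Nat.card (C(Q))) * (Nat.card Q * Nat.card (C(R))) := by ring
      _ = (Nat.card R * Nat.card (C(R))) * (Nat.card R * Nat.card (C(Q))) := by rw [k3, k4]
      _ = _ := by ring
  have k6 : Nat.card Q = Nat.card R := Nat.mul_self_inj.mp k5
  refine ⟨k6, ?_⟩
  rw [k6] at k3
  exact Nat.eq_of_mul_eq_mul_left p6 k3

/-- a minimal centrally large subgroup which is abelian is a large abelian subgroup and `f = d²` -/
theorem mem_max_of_comm {Q : Subgroup G} (hQ : IsMinimalCentrallyLarge Q) (hc : Q ≤ C(Q)) :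
    Q ∈ maxAbelianSubgroups G := by
  refine ⟨(isMulCommutative_iff Q).mpr hc, fun B hB => ?_⟩
  rw [isMulCommutative_iff] at hB
  have h1 := meas_le B
  have h2 := min_cl hQ
  unfold IsCentralizerLarge at h2
  have h3 : C(Q) = Q := le_antisymm (min_le hQ) hc
  rw [h3] at h2
  rw [← h2] at h1
  have h4 := Nat.mul_le_mul_left (Nat.card B) (Subgroup.card_le_of_le hB)
  exact Nat.mul_self_le_mul_self_iff.mp (h4.trans h1)

theorem min_of_mem_max {Q A : Subgroup G} (hQ : IsMinimalCentrallyLarge Q) (hc : Q ≤ C(Q))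
    (hA : A ∈ maxAbelianSubgroups G) : IsMinimalCentrallyLarge A := by
  have hQm := mem_max_of_comm hQ hc
  have h1 : Nat.card A = Nat.card Q := le_antisymm (hQm.2 A hA.1) (hA.2 Q hQm.1)
  have h3 : C(Q) = Q := le_antisymm (min_le hQ) hc
  have h4 := min_cl hQ
  unfold IsCentralizerLarge at h4
  rw [h3] at h4
  constructor
  · rw [isCentrallyLarge_iff]
    refine ⟨?_, (MA.centralizer_eq hA).le⟩
    unfold IsCentralizerLarge
    rw [MA.centralizer_eq hA, h1, h4]
  · intro R hR hcl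
    have hR2 := (isCentrallyLarge_iff R).mp hcl
    have hRc : R ≤ C(R) :=
      hR.trans ((MA.le_cent hA).trans (Subgroup.centralizer_le (SetLike.coe_subset_coe.mpr hR)))
    have h5 : C(R) = R := le_antisymm hR2.2 hRc
    have h6 := hR2.1
    unfold IsCentralizerLarge at h6
    rw [h5, ← h4] at h6
    refine Subgroup.eq_of_le_of_card_ge hR ?_
    rw [h1]
    exact (Nat.mul_self_inj.mp h6).ge

theorem min_iff_of_comm {Q : Subgroup G} (hQ : IsMinimalCentrallyLarge Q) (hc : Q ≤ C(Q)) (X : Subgroup G) :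
    IsMinimalCentrallyLarge X ↔ X ∈ maxAbelianSubgroups G := by
  constructor
  · intro hX
    refine mem_max_of_comm hX ?_
    have h := card_min_eq hQ hX
    have h3 : C(Q) = Q := le_antisymm (min_le hQ) hc
    have h4 : C(X) = X := by
      refine Subgroup.eq_of_le_of_card_ge (min_le hX) ?_
      rw [← h.1, ← h.2, h3]
    exact h4.ge
  · exact min_of_mem_max hQ hc

end Min

end Cfsg.Agent.H264.CD
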