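import Cfsg.Prelude.Def_BaumannBlocks

/-!
# The Chermak-Delgado lattice of a finite group (helper264)

`G` is any finite group. `IsCentralizerLarge R` says that `|R| |C_G(R)|` is as large as possible.

* `card_mul_card` : `|HK| |H ∩ K| = |H| |K|` for the set product `HK`;
* `meas_mul_meas_le` : `m(H) m(K) ≤ m(H ⊔ K) m(H ⊓ K)`;
* `CL.sup`, `CL.inf`, `CL.centralizer`, `CL.centralizer_centralizer`, `CL.mul_eq_sup`, `CL.centralizer_inf` : the
  Chermak-Delgado theorem;
* `isCentrallyLarge_iff` : centrally large = in the lattice and containing its centralizer.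
-/

set_option autoImplicit false

open scoped Pointwise
open Cfsg

namespace Cfsg.Agent.H264.CD

variable {G : Type*} [Group G]

section Cards

/-- `|HK| |H ∩ K| = |H| |K|` for the set product. -/
theorem card_mul_card (H K : Subgroup G) :
    Nat.card ((H : Set G) * (K : Set G) : Set G) * Nat.card (H ⊓ K : Subgroup G) =
      Nat.card H * Nat.card K := by
  have h1 := Subgroup.card_mul_eq_card_subgroup_mul_card_quotient K (H : Set G)
  have h2 : Nat.card (((↑) : G → G ⧸ K) '' (H : Set G)) = (K.subgroupOf H).index := by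
    rw [Subgroup.index]
    refine Nat.card_congr (Equiv.symm (Equiv.ofBijective
      (fun x : ↥H ⧸ K.subgroupOf H => (⟨Quotient.liftOn' x (fun h : H => ((h : G) : G ⧸ K)) ?_, ?_⟩ :
        (((↑) : G → G ⧸ K) '' (H : Set G)))) ⟨?_, ?_⟩))
    · intro a b hab
      rw [QuotientGroup.leftRel_apply] at hab
      refine QuotientGroup.eq.mpr ?_
      simpa [Subgroup.mem_subgroupOf] using hab
    · induction x using QuotientGroup.induction_on with
      | H z => exact ⟨z, z.2, rfl⟩
    · intro x y hxy
      induction x using QuotientGroup.induction_on with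
      | H a =>
        induction y using QuotientGroup.induction_on with
        | H b =>
          have h3 : ((a : G) : G ⧸ K) = ((b : G) : G ⧸ K) := congrArg Subtype.val hxy
          refine QuotientGroup.eq.mpr ?_
          rw [Subgroup.mem_subgroupOf]
          simpa using QuotientGroup.eq.mp h3
    · rintro ⟨_, h, hh, rfl⟩
      exact ⟨QuotientGroup.mk ⟨h, hh⟩, rfl⟩
  have h3 : Nat.card (H ⊓ K : Subgroup G) = Nat.card (K.subgroupOf H) := by
    rw [inf_comm]
    exact Nat.card_congr (Subgroup.subgroupOfEquivOfLe (inf_le_right : K ⊓ H ≤ H)).symm.toEquiv |>.trans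
      (by rw [Subgroup.inf_subgroupOf_right])
  rw [h1, h2, h3, mul_assoc, mul_comm (K.subgroupOf H).index, Subgroup.card_mul_index, mul_comm]

theorem mul_subset_sup (H K : Subgroup G) : (H : Set G) * (K : Set G) ⊆ ((H ⊔ K : Subgroup G) : Set G) := by
  rintro _ ⟨a, ha, b, hb, rfl⟩
  exact mul_mem (Subgroup.mem_sup_left ha) (Subgroup.mem_sup_right hb)

theorem card_mul_le_card_sup [Finite G] (H K : Subgroup G) :
    Nat.card ((H : Set G) * (K : Set G) : Set G) ≤ Nat.card (H ⊔ K : Subgroup G) :=
  Nat.card_mono (Set.toFinite _) (mul_subset_sup H K)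

theorem card_mul_card_le [Finite G] (H K : Subgroup G) :
    Nat.card H * Nat.card K ≤ Nat.card (H ⊔ K : Subgroup G) * Nat.card (H ⊓ K : Subgroup G) := by
  rw [← card_mul_card H K]
  exact Nat.mul_le_mul_right _ (card_mul_le_card_sup H K)

theorem card_pos (H : Subgroup G) [Finite G] : 0 < Nat.card H := Nat.card_pos

/-- if the orders match, the set product is the join -/
theorem sup_eq_mul_of_card [Finite G] {H K : Subgroup G}
    (h : Nat.card (H ⊔ K : Subgroup G) * Nat.card (H ⊓ K : Subgroup G) ≤ Nat.card H * Nat.card K) :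
    ((H ⊔ K : Subgroup G) : Set G) = (H : Set G) * (K : Set G) := by
  rw [← card_mul_card H K] at h
  have h1 := Nat.le_of_mul_le_mul_right h (card_pos _)
  refine (Set.eq_of_subset_of_ncard_le (mul_subset_sup H K) ?_ (Set.toFinite _)).symm
  rwa [← Nat.card_coe_set_eq, ← Nat.card_coe_set_eq]

/-- conversely -/
theorem card_sup_mul_card_inf_of_mul {H K : Subgroup G}
    (h : ((H ⊔ K : Subgroup G) : Set G) = (H : Set G) * (K : Set G)) :
    Nat.card (H ⊔ K : Subgroup G) * Nat.card (H ⊓ K : Subgroup G) = Nat.card H * Nat.card K := by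
  rw [← card_mul_card H K, ← h]
  rfl

end Cards

section Measure

theorem bdd_meas [Finite G] :
    BddAbove {k : ℕ | ∃ R : Subgroup G, Nat.card ↥R * Nat.card ↥(Subgroup.centralizer (R : Set G)) = k} := by
  refine ⟨Nat.card G * Nat.card G, ?_⟩
  rintro k ⟨R, rfl⟩
  exact Nat.mul_le_mul (Subgroup.card_le_card_group R) (Subgroup.card_le_card_group _)

theorem bdd_cent [Finite G] :
    BddAbove {k : ℕ | ∃ R : Subgroup G, Nat.card ↥R * Nat.card ↥(Subgroup.center ↥R) = k} := by
  refine ⟨Nat.card G * Nat.card G, ?_⟩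
  rintro k ⟨R, rfl⟩
  exact Nat.mul_le_mul (Subgroup.card_le_card_group R)
    ((Subgroup.card_le_card_group _).trans (Subgroup.card_le_card_group R))

/-- the Chermak-Delgado measure is at most the maximum -/
theorem meas_le [Finite G] (R : Subgroup G) :
    Nat.card R * Nat.card (Subgroup.centralizer (R : Set G)) ≤ maxCentralizerProduct G :=
  le_csSup bdd_meas ⟨R, rfl⟩

theorem cent_le [Finite G] (R : Subgroup G) :
    Nat.card R * Nat.card (Subgroup.center R) ≤ maxCentralProduct G :=
  le_csSup bdd_cent ⟨R, rfl⟩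

theorem exists_meas [Finite G] : ∃ R : Subgroup G, IsCentralizerLarge R :=
  Nat.sSup_mem (s := {k : ℕ | ∃ R : Subgroup G, Nat.card ↥R * Nat.card ↥(Subgroup.centralizer (R : Set G)) = k})
    ⟨_, ⊥, rfl⟩ bdd_meas

theorem exists_cent [Finite G] : ∃ R : Subgroup G, IsCentrallyLarge R :=
  Nat.sSup_mem (s := {k : ℕ | ∃ R : Subgroup G, Nat.card ↥R * Nat.card ↥(Subgroup.center ↥R) = k})
    ⟨_, ⊥, rfl⟩ bdd_cent

/-- in the lattice iff at least as large as everything -/
theorem cl_of_ge [Finite G] {R : Subgroup G}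
    (h : maxCentralizerProduct G ≤ Nat.card R * Nat.card (Subgroup.centralizer (R : Set G))) :
    IsCentralizerLarge R := le_antisymm (meas_le R) h

theorem centralizer_sup (H K : Subgroup G) :
    Subgroup.centralizer ((H ⊔ K : Subgroup G) : Set G) =
      Subgroup.centralizer (H : Set G) ⊓ Subgroup.centralizer (K : Set G) := by
  apply le_antisymm
  · exact le_inf (Subgroup.centralizer_le (SetLike.coe_subset_coe.mpr le_sup_left))
      (Subgroup.centralizer_le (SetLike.coe_subset_coe.mpr le_sup_right))
  · rw [← Subgroup.le_centralizer_iff]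
    exact sup_le (Subgroup.le_centralizer_iff.mp inf_le_left) (Subgroup.le_centralizer_iff.mp inf_le_right)

theorem sup_centralizer_le (H K : Subgroup G) :
    Subgroup.centralizer (H : Set G) ⊔ Subgroup.centralizer (K : Set G) ≤
      Subgroup.centralizer ((H ⊓ K : Subgroup G) : Set G) :=
  sup_le (Subgroup.centralizer_le (SetLike.coe_subset_coe.mpr inf_le_left))
    (Subgroup.centralizer_le (SetLike.coe_subset_coe.mpr inf_le_right))

theorem le_cc (H : Subgroup G) :
    H ≤ Subgroup.centralizer ((Subgroup.centralizer (H : Set G) : Subgroup G) : Set G) :=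
  Subgroup.le_centralizer_iff.mp le_rfl

/-- `m(H) m(K) ≤ m(H ⊔ K) m(H ⊓ K)` -/
theorem meas_mul_meas_le [Finite G] (H K : Subgroup G) :
    (Nat.card H * Nat.card (Subgroup.centralizer (H : Set G))) *
        (Nat.card K * Nat.card (Subgroup.centralizer (K : Set G))) ≤
      (Nat.card (H ⊔ K : Subgroup G) * Nat.card (Subgroup.centralizer ((H ⊔ K : Subgroup G) : Set G))) *
        (Nat.card (H ⊓ K : Subgroup G) *
          Nat.card (Subgroup.centralizer ((H ⊓ K : Subgroup G) : Set G))) := by
  have h1 := card_mul_card_le H K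
  have h2 := card_mul_card_le (Subgroup.centralizer (H : Set G)) (Subgroup.centralizer (K : Set G))
  rw [← centralizer_sup] at h2
  have h3 := Subgroup.card_le_of_le (sup_centralizer_le H K)
  calc _ = (Nat.card H * Nat.card K) * (Nat.card (Subgroup.centralizer (H : Set G)) *
        Nat.card (Subgroup.centralizer (K : Set G))) := by ring
    _ ≤ (Nat.card (H ⊔ K : Subgroup G) * Nat.card (H ⊓ K : Subgroup G)) *
        (Nat.card (Subgroup.centralizer ((H ⊓ K : Subgroup G) : Set G)) *
          Nat.card (Subgroup.centralizer ((H ⊔ K : Subgroup G) : Set G))) :=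
      Nat.mul_le_mul h1 (h2.trans (Nat.mul_le_mul_right _ h3))
    _ = _ := by ring

end Measure

section Lattice

variable [Finite G] {H K : Subgroup G}

theorem meas_pos (H : Subgroup G) :
    0 < Nat.card H * Nat.card (Subgroup.centralizer (H : Set G)) := Nat.mul_pos (card_pos _) (card_pos _)

theorem max_pos : 0 < maxCentralizerProduct G := lt_of_lt_of_le (meas_pos ⊥) (meas_le ⊥)

/-- auxiliary: both factors are maximal -/
theorem sup_inf_aux (hH : IsCentralizerLarge H) (hK : IsCentralizerLarge K) :
    IsCentralizerLarge (H ⊔ K) ∧ IsCentralizerLarge (H ⊓ K) := by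
  have h := meas_mul_meas_le H K
  unfold IsCentralizerLarge at *
  rw [hH, hK] at h
  have h1 := meas_le (H ⊔ K)
  have h2 := meas_le (H ⊓ K)
  have hm := max_pos (G := G)
  constructor
  · refine le_antisymm h1 ?_
    by_contra hc
    push Not at hc
    exact absurd h (not_le.mpr (lt_of_lt_of_le (Nat.mul_lt_mul_of_pos_right hc (meas_pos _))
      (Nat.mul_le_mul_left _ h2)))
  · refine le_antisymm h2 ?_
    by_contra hc
    push Not at hc
    exact absurd h (not_le.mpr (lt_of_lt_of_le (Nat.mul_lt_mul_of_pos_left hc (meas_pos _))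
      (Nat.mul_le_mul_right _ h1)))

theorem CL.sup (hH : IsCentralizerLarge H) (hK : IsCentralizerLarge K) : IsCentralizerLarge (H ⊔ K) :=
  (sup_inf_aux hH hK).1

theorem CL.inf (hH : IsCentralizerLarge H) (hK : IsCentralizerLarge K) : IsCentralizerLarge (H ⊓ K) :=
  (sup_inf_aux hH hK).2

theorem CL.cc (hH : IsCentralizerLarge H) :
    Subgroup.centralizer ((Subgroup.centralizer (H : Set G) : Subgroup G) : Set G) = H := by
  have h1 := meas_le (Subgroup.centralizer (H : Set G))
  unfold IsCentralizerLarge at hH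
  rw [← hH, mul_comm] at h1
  have h2 := Nat.le_of_mul_le_mul_right h1 (card_pos _)
  exact (Subgroup.eq_of_le_of_card_ge (le_cc H) h2).symm

theorem CL.centralizer (hH : IsCentralizerLarge H) :
    IsCentralizerLarge (Subgroup.centralizer (H : Set G)) := by
  have h := hH.symm
  unfold IsCentralizerLarge at *
  rw [CL.cc hH, mul_comm, h]

/-- equality everywhere -/
theorem eqs_aux (hH : IsCentralizerLarge H) (hK : IsCentralizerLarge K) :
    (Nat.card (H ⊔ K : Subgroup G) * Nat.card (H ⊓ K : Subgroup G) ≤ Nat.card H * Nat.card K) ∧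
      Nat.card (Subgroup.centralizer ((H ⊓ K : Subgroup G) : Set G)) ≤
        Nat.card (Subgroup.centralizer (H : Set G) ⊔ Subgroup.centralizer (K : Set G) : Subgroup G) := by
  have hs := CL.sup hH hK
  have hi := CL.inf hH hK
  unfold IsCentralizerLarge at hH hK hs hi
  have h1 := card_mul_card_le H K
  have h2 := card_mul_card_le (Subgroup.centralizer (H : Set G)) (Subgroup.centralizer (K : Set G))
  rw [← centralizer_sup] at h2
  have h3 := Subgroup.card_le_of_le (sup_centralizer_le H K)
  have e : (Nat.card H * Nat.card K) * (Nat.card (Subgroup.centralizer (H : Set G)) *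
        Nat.card (Subgroup.centralizer (K : Set G))) =
      (Nat.card (H ⊔ K : Subgroup G) * Nat.card (H ⊓ K : Subgroup G)) *
        (Nat.card (Subgroup.centralizer ((H ⊓ K : Subgroup G) : Set G)) *
          Nat.card (Subgroup.centralizer ((H ⊔ K : Subgroup G) : Set G))) := by
    calc _ = (Nat.card H * Nat.card (Subgroup.centralizer (H : Set G))) *
        (Nat.card K * Nat.card (Subgroup.centralizer (K : Set G))) := by ring
      _ = (Nat.card (H ⊔ K : Subgroup G) * Nat.card (Subgroup.centralizer ((H ⊔ K : Subgroup G) : Set G))) *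
        (Nat.card (H ⊓ K : Subgroup G) *
          Nat.card (Subgroup.centralizer ((H ⊓ K : Subgroup G) : Set G))) := by rw [hH, hK, hs, hi]
      _ = _ := by ring
  constructor
  · by_contra hc
    push Not at hc
    have h4 : Nat.card (Subgroup.centralizer (H : Set G)) *
        Nat.card (Subgroup.centralizer (K : Set G)) ≤
        (Nat.card (Subgroup.centralizer ((H ⊓ K : Subgroup G) : Set G)) *
          Nat.card (Subgroup.centralizer ((H ⊔ K : Subgroup G) : Set G))) :=
      h2.trans (Nat.mul_le_mul_right _ h3)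
    have h5 := Nat.mul_lt_mul_of_lt_of_le hc h4 (Nat.mul_pos (card_pos _) (card_pos _))
    exact absurd e h5.ne
  · by_contra hc
    push Not at hc
    have h4 : Nat.card (Subgroup.centralizer (H : Set G)) *
        Nat.card (Subgroup.centralizer (K : Set G)) <
        (Nat.card (Subgroup.centralizer ((H ⊓ K : Subgroup G) : Set G)) *
          Nat.card (Subgroup.centralizer ((H ⊔ K : Subgroup G) : Set G))) :=
      lt_of_le_of_lt h2 (Nat.mul_lt_mul_of_pos_right hc (card_pos _))
    have h5 := Nat.mul_lt_mul_of_le_of_lt h1 h4 (Nat.mul_pos (card_pos _) (card_pos _))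
    exact absurd e h5.ne

theorem CL.sup_eq_mul (hH : IsCentralizerLarge H) (hK : IsCentralizerLarge K) :
    ((H ⊔ K : Subgroup G) : Set G) = (H : Set G) * (K : Set G) :=
  sup_eq_mul_of_card (eqs_aux hH hK).1

theorem CL.mul_comm (hH : IsCentralizerLarge H) (hK : IsCentralizerLarge K) :
    (H : Set G) * (K : Set G) = (K : Set G) * (H : Set G) := by
  rw [← CL.sup_eq_mul hH hK, ← CL.sup_eq_mul hK hH, sup_comm]

theorem CL.mem_sup (hH : IsCentralizerLarge H) (hK : IsCentralizerLarge K) {x : G} :
    x ∈ H ⊔ K ↔ ∃ a ∈ H, ∃ b ∈ K, a * b = x := by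
  rw [← SetLike.mem_coe, CL.sup_eq_mul hH hK]
  exact Iff.rfl

theorem CL.card_sup (hH : IsCentralizerLarge H) (hK : IsCentralizerLarge K) :
    Nat.card (H ⊔ K : Subgroup G) * Nat.card (H ⊓ K : Subgroup G) = Nat.card H * Nat.card K :=
  card_sup_mul_card_inf_of_mul (CL.sup_eq_mul hH hK)

theorem CL.centralizer_inf (hH : IsCentralizerLarge H) (hK : IsCentralizerLarge K) :
    Subgroup.centralizer ((H ⊓ K : Subgroup G) : Set G) =
      Subgroup.centralizer (H : Set G) ⊔ Subgroup.centralizer (K : Set G) :=
  (Subgroup.eq_of_le_of_card_ge (sup_centralizer_le H K) (eqs_aux hH hK).2).symm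

theorem CL.center_le (hH : IsCentralizerLarge H) : Subgroup.center G ≤ H := by
  rw [← CL.cc hH]
  exact Subgroup.center_le_centralizer _

end Lattice

section Central

variable {H K : Subgroup G}

theorem card_center_eq (R : Subgroup G) :
    Nat.card (Subgroup.center R) = Nat.card (R ⊓ Subgroup.centralizer (R : Set G) : Subgroup G) := by
  have h : (Subgroup.center R).map R.subtype = R ⊓ Subgroup.centralizer (R : Set G) := by
    ext x
    simp only [Subgroup.mem_map, Subgroup.mem_inf, Subgroup.mem_centralizer_iff, Subgroup.mem_center_iff,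
      Subgroup.coe_subtype]
    constructor
    · rintro ⟨y, hy, rfl⟩
      exact ⟨y.2, fun g hg => congrArg Subtype.val (hy ⟨g, hg⟩)⟩
    · rintro ⟨hx, h⟩
      exact ⟨⟨x, hx⟩, fun g => Subtype.ext (h g g.2), rfl⟩
  rw [← h]
  exact (Subgroup.card_map_of_injective R.subtype_injective).symm

variable [Finite G]

theorem cent_le_meas (R : Subgroup G) :
    Nat.card R * Nat.card (Subgroup.center R) ≤
      Nat.card R * Nat.card (Subgroup.centralizer (R : Set G)) := by
  rw [card_center_eq]
  exact Nat.mul_le_mul_left _ (Subgroup.card_le_of_le inf_le_right)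

/-- the two maxima agree -/
theorem max_eq : maxCentralProduct G = maxCentralizerProduct G := by
  apply le_antisymm
  · obtain ⟨R, hR⟩ := exists_cent (G := G)
    rw [← hR]
    exact (cent_le_meas R).trans (meas_le R)
  · obtain ⟨R, hR⟩ := exists_meas (G := G)
    have hC := CL.centralizer hR
    have hS := CL.sup hR hC
    have h1 := cent_le (R ⊔ Subgroup.centralizer (R : Set G))
    rw [card_center_eq, inf_eq_right.mpr] at h1
    · rw [← hS]
      exact h1
    · rw [centralizer_sup, CL.cc hR]
      exact inf_le_right.trans le_sup_left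

theorem isCentrallyLarge_iff (R : Subgroup G) :
    IsCentrallyLarge R ↔ IsCentralizerLarge R ∧ Subgroup.centralizer (R : Set G) ≤ R := by
  constructor
  · intro h
    have h0 := h
    unfold IsCentrallyLarge at h
    rw [max_eq] at h
    have h1 := (cent_le_meas R).trans (meas_le R)
    have h2 : IsCentralizerLarge R := le_antisymm (meas_le R) (h ▸ cent_le_meas R)
    refine ⟨h2, ?_⟩
    unfold IsCentralizerLarge at h2
    rw [← h2, card_center_eq] at h
    have h3 := Nat.eq_of_mul_eq_mul_left (card_pos _) h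
    have h4 : R ⊓ Subgroup.centralizer (R : Set G) = Subgroup.centralizer (R : Set G) :=
      Subgroup.eq_of_le_of_card_ge inf_le_right h3.ge
    exact inf_eq_right.mp h4
  · rintro ⟨h1, h2⟩
    unfold IsCentrallyLarge
    rw [card_center_eq, inf_eq_right.mpr h2, max_eq]
    exact h1

theorem inf_centralizer_eq {R : Subgroup G} (h : IsCentrallyLarge R) :
    R ⊓ Subgroup.centralizer (R : Set G) = Subgroup.centralizer (R : Set G) :=
  inf_eq_right.mpr ((isCentrallyLarge_iff R).mp h).2

theorem Cent.sup {Q R : Subgroup G} (hQ : IsCentrallyLarge Q) (hR : IsCentralizerLarge R)  :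
    IsCentrallyLarge (Q ⊔ R) := by
  rw [isCentrallyLarge_iff] at hQ ⊢
  refine ⟨CL.sup hQ.1 hR, ?_⟩
  rw [centralizer_sup]
  exact inf_le_left.trans (hQ.2.trans le_sup_left)

/-- a nonempty finite family closed under sup contains its join -/
theorem sSup_mem_of_sup {α : Type*} [CompleteLattice α] [Finite α] {s : Set α} (hne : s.Nonempty)
    (h : ∀ a ∈ s, ∀ b ∈ s, a ⊔ b ∈ s) : sSup s ∈ s := by
  obtain ⟨m, hm, hmax⟩ := (Set.toFinite s).exists_maximalFor id s hne
  have : sSup s = m := by
    apply le_antisymm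
    · refine sSup_le fun b hb => ?_
      have := hmax (h m hm b hb) (le_sup_left : m ≤ m ⊔ b)
      exact le_sup_right.trans this
    · exact le_sSup hm
  rw [this]; exact hm

/-- the join of a nonempty family inside a sup-closed property -/
theorem sSup_prop {α : Type*} [CompleteLattice α] [Finite α] {q : α → Prop} (hq : ∀ a b, q a → q b → q (a ⊔ b))
    {s : Set α} (hne : s.Nonempty) (h : ∀ a ∈ s, q a) : q (sSup s) := by
  have h1 := sSup_mem_of_sup (s := {a | q a ∧ a ≤ sSup s}) (by
    obtain ⟨a, ha⟩ := hne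
    exact ⟨a, h a ha, le_sSup ha⟩) (fun a ha b hb => ⟨hq a b ha.1 hb.1, sup_le ha.2 hb.2⟩)
  have h2 : sSup {a | q a ∧ a ≤ sSup s} = sSup s :=
    le_antisymm (sSup_le fun a ha => ha.2) (sSup_le_sSup fun a ha => ⟨h a ha, le_sSup ha⟩)
  rw [h2] at h1
  exact h1.1

theorem CL.sSup_mem {s : Set (Subgroup G)} (hne : s.Nonempty) (h : ∀ R ∈ s, IsCentralizerLarge R) :
    IsCentralizerLarge (sSup s) := sSup_prop (fun _ _ ha hb => CL.sup ha hb) hne h

theorem Cent.sSup_mem {s : Set (Subgroup G)} (hne : s.Nonempty) (h : ∀ R ∈ s, IsCentrallyLarge R) :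
    IsCentrallyLarge (sSup s) :=
  sSup_prop (fun _ b ha hb => Cent.sup ha ((isCentrallyLarge_iff b).mp hb).1) hne h

/-- every centrally large subgroup contains a minimal one -/
theorem exists_min_le {Q : Subgroup G} (hQ : IsCentrallyLarge Q) :
    ∃ R : Subgroup G, R ≤ Q ∧ IsMinimalCentrallyLarge R := by
  obtain ⟨m, hm, hmin⟩ := (Set.toFinite {R : Subgroup G | R ≤ Q ∧ IsCentrallyLarge R}).exists_minimalFor id _
    ⟨Q, le_rfl, hQ⟩
  exact ⟨m, hm.1, hm.2, fun R' hR' hc => le_antisymm hR' (hmin ⟨hR'.trans hm.1, hc⟩ hR')⟩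

theorem exists_min : ∃ R : Subgroup G, IsMinimalCentrallyLarge R := by
  obtain ⟨Q, hQ⟩ := exists_cent (G := G)
  obtain ⟨R, -, hR⟩ := exists_min_le hQ
  exact ⟨R, hR⟩

theorem isCentrallyLarge_join : IsCentrallyLarge (centrallyLargeJoin G) :=
  Cent.sSup_mem exists_cent (fun _ h => h)

theorem isCentrallyLarge_minJoin : IsCentrallyLarge (minimalCentrallyLargeJoin G) :=
  Cent.sSup_mem exists_min (fun _ h => h.1)

end Central

end Cfsg.Agent.H264.CD
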