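import Mathlib
import Cfsg.Prelude.Def_Classical
import Cfsg.Agent.LieRecognition.PSUThreeSylow

/-!
# An element of order four whose square commutes with a non-trivial element of odd order

For `PSL₃(q)`, `q ≥ 8` even, and `PSU₃(q)`, `q ≥ 4` even.
-/

set_option autoImplicit false

namespace Cfsg.Agent.H264.CertLU3

open Matrix

/-- The elements in the quotient by the centre. -/
theorem cert_of {H : Type*} [Group H] (x y : H) (hx4 : x ^ 4 = 1) (hx2 : x ^ 2 ∉ Subgroup.center H)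
    (hy : y ∉ Subgroup.center H) {n : ℕ} (hn : Odd n) (hyn : y ^ n = 1) (hc : x ^ 2 * y = y * x ^ 2) :
    ∃ x y : H ⧸ Subgroup.center H, orderOf x = 4 ∧ y ≠ 1 ∧ Odd (orderOf y) ∧ x ^ 2 * y = y * x ^ 2 := by
  refine ⟨QuotientGroup.mk x, QuotientGroup.mk y, ?_, ?_, ?_, ?_⟩
  · have : Fact (Nat.Prime 2) := ⟨Nat.prime_two⟩
    have h := orderOf_eq_prime_pow (x := (QuotientGroup.mk x : H ⧸ Subgroup.center H)) (p := 2) (n := 1)
      (by
        rw [pow_one, ← QuotientGroup.mk_pow, QuotientGroup.eq_one_iff]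
        exact hx2)
      (by
        rw [← QuotientGroup.mk_pow, show 2 ^ (1 + 1) = 4 by norm_num, hx4, QuotientGroup.mk_one])
    rw [h]
    norm_num
  · rw [Ne, QuotientGroup.eq_one_iff]
    exact hy
  · refine Odd.of_dvd_nat hn (orderOf_dvd_of_pow_eq_one ?_)
    rw [← QuotientGroup.mk_pow, hyn, QuotientGroup.mk_one]
  · rw [← QuotientGroup.mk_pow, ← QuotientGroup.mk_mul, hc, QuotientGroup.mk_mul]

section
variable {F : Type*} [Field F]

/-- unitriangular matrices -/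
def um (a b c : F) : Matrix (Fin 3) (Fin 3) F := !![1, a, b; 0, 1, c; 0, 0, 1]

/-- diagonal matrices -/
def dm (a m : F) : Matrix (Fin 3) (Fin 3) F := !![a, 0, 0; 0, m, 0; 0, 0, a]

theorem det_um (a b c : F) : (um a b c).det = 1 := by
  rw [um, Matrix.det_fin_three]
  simp

theorem det_dm (a m : F) : (dm a m).det = a * a * m := by
  rw [dm, Matrix.det_fin_three]
  simp
  ring

theorem um_mul (a b c a' b' c' : F) : um a b c * um a' b' c' = um (a + a') (b + b' + a * c') (c + c') := by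
  ext i j
  fin_cases i <;> fin_cases j <;> simp [um, Matrix.mul_apply, Fin.sum_univ_three] <;> ring

theorem dm_mul (a m a' m' : F) : dm a m * dm a' m' = dm (a * a') (m * m') := by
  ext i j
  fin_cases i <;> fin_cases j <;> simp [dm, Matrix.mul_apply, Fin.sum_univ_three]

theorem dm_one : dm (1 : F) 1 = 1 := by
  ext i j
  fin_cases i <;> fin_cases j <;> simp [dm]

theorem um_one : um (0 : F) 0 0 = 1 := by
  ext i j
  fin_cases i <;> fin_cases j <;> simp [um]

theorem dm_pow (a m : F) (n : ℕ) : dm a m ^ n = dm (a ^ n) (m ^ n) := by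
  induction n with
  | zero => simp [dm_one]
  | succ n ih => rw [pow_succ, ih, dm_mul, pow_succ, pow_succ]

theorem um_dm (s a m : F) : um 0 s 0 * dm a m = dm a m * um 0 s 0 := by
  ext i j
  fin_cases i <;> fin_cases j <;> simp [um, dm, Matrix.mul_apply, Fin.sum_univ_three, mul_comm]

theorem um_sq [CharP F 2] (a b c : F) : um a b c * um a b c = um 0 (a * c) 0 := by
  rw [um_mul, CharTwo.add_self_eq_zero, CharTwo.add_self_eq_zero, CharTwo.add_self_eq_zero, zero_add]

end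

theorem exists_unit {F : Type*} [Field F] [Fintype F] (h8 : 8 ≤ Fintype.card F) :
    ∃ a : F, a ≠ 0 ∧ a ^ 3 ≠ 1 := by
  classical
  by_contra hcon
  push Not at hcon
  have h1 : (Finset.univ : Finset F) ⊆ insert 0 ((Polynomial.nthRoots 3 (1 : F)).toFinset) := by
    intro a _
    rw [Finset.mem_insert]
    by_cases ha : a = 0
    · exact Or.inl ha
    · refine Or.inr ?_
      rw [Multiset.mem_toFinset, Polynomial.mem_nthRoots (by norm_num)]
      exact hcon a ha
  have h3 := Finset.card_le_card h1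
  have h4 := Finset.card_insert_le (0 : F) ((Polynomial.nthRoots 3 (1 : F)).toFinset)
  have h5 := Multiset.toFinset_card_le (Polynomial.nthRoots 3 (1 : F))
  have h6 := Polynomial.card_nthRoots 3 (1 : F)
  rw [Finset.card_univ] at h3
  omega

theorem cert_psl3 {F : Type} [Field F] [Fintype F] (h2 : ringChar F = 2) (h8 : 8 ≤ Fintype.card F) :
    ∃ x y : Matrix.ProjectiveSpecialLinearGroup (Fin 3) F, orderOf x = 4 ∧ y ≠ 1 ∧ Odd (orderOf y) ∧
      x ^ 2 * y = y * x ^ 2 := by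
  have hc : CharP F 2 := ringChar.of_eq h2
  -- a unit which is no cube root of one
  obtain ⟨a, ha0, ha3⟩ := exists_unit h8
  have hodd : Odd (Fintype.card F - 1) := by
    obtain ⟨n, hn, hcard⟩ := FiniteField.card F 2
    rw [hcard]
    have : Even (2 ^ (n : ℕ)) := (even_two).pow_of_ne_zero n.ne_zero
    have h1 : 1 ≤ 2 ^ (n : ℕ) := Nat.one_le_two_pow
    rw [Nat.odd_sub h1]
    simp [this]
  let X : SpecialLinearGroup (Fin 3) F := ⟨um 1 0 1, det_um _ _ _⟩
  let Y : SpecialLinearGroup (Fin 3) F := ⟨dm a (a⁻¹ ^ 2), by rw [det_dm]; field_simp⟩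
  have hX2 : (X ^ 2).1 = um 0 1 0 := by
    rw [pow_two]
    change um 1 0 1 * um 1 0 1 = _
    rw [um_sq, one_mul]
  refine cert_of X Y ?_ ?_ ?_ hodd ?_ ?_
  · apply Subtype.ext
    rw [show 4 = 2 + 2 by norm_num, pow_add]
    change (X ^ 2).1 * (X ^ 2).1 = 1
    rw [hX2, um_sq, zero_mul, um_one]
  · intro hz
    rw [Subgroup.mem_center_iff] at hz
    let W : SpecialLinearGroup (Fin 3) F := ⟨!![0, 0, 1; 0, -1, 0; 1, 0, 0], by
      rw [Matrix.det_fin_three]; simp⟩
    have h1 := congrArg Subtype.val (hz W)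
    change !![0, 0, 1; 0, -1, 0; 1, 0, 0] * (X ^ 2).1 = (X ^ 2).1 * !![0, 0, 1; 0, -1, 0; 1, 0, 0] at h1
    rw [hX2] at h1
    have h3 := congrFun (congrFun h1 0) 0
    simp [um, Matrix.mul_apply, Fin.sum_univ_three] at h3
  · intro hz
    rw [Subgroup.mem_center_iff] at hz
    have h1 := congrArg Subtype.val (hz X)
    change um 1 0 1 * dm a (a⁻¹ ^ 2) = dm a (a⁻¹ ^ 2) * um 1 0 1 at h1
    have h3 := congrFun (congrFun h1 0) 1
    simp [um, dm, Matrix.mul_apply, Fin.sum_univ_three] at h3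
    apply ha3
    field_simp at h3
    exact h3.symm
  · apply Subtype.ext
    rw [Matrix.SpecialLinearGroup.coe_pow]
    change dm a (a⁻¹ ^ 2) ^ _ = 1
    have h1 : a ^ (Fintype.card F - 1) = 1 := FiniteField.pow_card_sub_one_eq_one a ha0
    rw [dm_pow, ← pow_mul, mul_comm 2, pow_mul, inv_pow, h1, inv_one, one_pow, dm_one]
  · apply Subtype.ext
    change (X ^ 2).1 * dm a (a⁻¹ ^ 2) = dm a (a⁻¹ ^ 2) * (X ^ 2).1
    rw [hX2, um_dm]

open Cfsg.Agent.LieRecognition.PSUThreeSylow Cfsg.Agent.LieRecognition.HermHeis in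
theorem cert_psu3 {F : Type} [Field F] [Fintype F] (f : ℕ) (hf : 2 ≤ f) (hF : Fintype.card F = (2 ^ f) ^ 2) :
    ∃ x y : Cfsg.PSU 3 F (2 ^ f), orderOf x = 4 ∧ y ≠ 1 ∧ Odd (orderOf y) ∧ x ^ 2 * y = y * x ^ 2 := by
  have hF' : Nat.card F = (2 ^ f) ^ 2 := by rw [Nat.card_eq_fintype_card, hF]
  have hc2 : CharP F 2 := charP_two_of_card hF'
  have : Fact (Nat.Prime 2) := ⟨Nat.prime_two⟩
  have hs : ∀ x, iterateFrobenius F 2 f x = x ^ (2 ^ f) := fun x => iterateFrobenius_def 2 f x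
  have hinv : Fact (∀ x, iterateFrobenius F 2 f (iterateFrobenius F 2 f x) = x) := ⟨fun x => by
    rw [hs, hs, ← pow_mul, ← sq, ← hF, FiniteField.pow_card]⟩
  generalize iterateFrobenius F 2 f = σ at hs hinv
  have hq : 1 < 2 ^ f := Nat.one_lt_two_pow (by omega)
  have hq4 : 4 ≤ 2 ^ f := by
    calc 4 = 2 ^ 2 := by norm_num
      _ ≤ 2 ^ f := Nat.pow_le_pow_right (by norm_num) hf
  obtain ⟨c, hc⟩ := exists_not_fixed (σ := σ) hq hs hF'
  obtain ⟨T, T', hTT', hT⟩ := exists_T hc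
  let e : SUJ σ ≃* Cfsg.SU 3 F (2 ^ f) :=
    ((conjT hTT').subgroupMap (SUJ σ)).trans (MulEquiv.subgroupCongr (SU_eq_map hs hTT' hT))
  obtain ⟨x, hx⟩ := exists_heis_a (σ := σ) hq hs hF' 1
  -- the torus element
  obtain ⟨γ, hγ⟩ := IsCyclic.exists_generator (α := Fˣ)
  have hord : orderOf γ = (2 ^ f) ^ 2 - 1 := by
    rw [orderOf_eq_card_of_forall_mem_zpowers hγ, Nat.card_units, hF']
  obtain ⟨r, hr⟩ : ∃ r, 2 ^ f = r + 1 := ⟨2 ^ f - 1, by omega⟩
  have hr3 : 3 ≤ r := by omega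
  have hev : Even (r + 1) := by
    rw [← hr]
    exact (even_two).pow_of_ne_zero (by omega)
  have hcard : (2 ^ f) ^ 2 - 1 = r * (r + 2) := by
    rw [hr, show (r + 1) ^ 2 = r * (r + 2) + 1 by ring]
    simp
  set b : F := ((γ ^ r : Fˣ) : F) with hb
  have hb0 : b ≠ 0 := (γ ^ r).ne_zero
  have hb1 : b ^ (r + 2) = 1 := by
    rw [hb, ← Units.val_pow_eq_pow_val, ← pow_mul, ← hcard, ← hord, pow_orderOf_eq_one, Units.val_one]
  have hb3 : b ^ 3 ≠ 1 := by
    intro h
    have h1 : (γ ^ r) ^ 3 = 1 := by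
      apply Units.ext
      rw [Units.val_pow_eq_pow_val, ← hb, h, Units.val_one]
    rw [← pow_mul] at h1
    have h2 := orderOf_dvd_of_pow_eq_one h1
    rw [hord, hcard] at h2
    have h3 := Nat.dvd_of_mul_dvd_mul_left (by omega) h2
    have := Nat.le_of_dvd (by norm_num) h3
    omega
  have hσb : σ b = b⁻¹ := by
    rw [hs, hr]
    refine eq_inv_of_mul_eq_one_left ?_
    rw [← pow_succ]
    exact hb1
  let Y0 : SpecialLinearGroup (Fin 3) F := ⟨dm b (b⁻¹ ^ 2), by rw [det_dm]; field_simp⟩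
  have hYmem : Y0 ∈ SUJ σ := by
    rw [mem_SUJ_iff]
    change (dm b (b⁻¹ ^ 2))ᵀ * Jm F * (dm b (b⁻¹ ^ 2)).map σ = Jm F
    ext i j
    fin_cases i <;> fin_cases j <;> simp [dm, Jm, Matrix.mul_apply, Fin.sum_univ_three, hσb, hb0]
  let Y : SUJ σ := ⟨Y0, hYmem⟩
  have hxx : x ^ 2 ≠ 1 := by
    rw [pow_two, Ne, Cfsg.Agent.LieRecognition.HermHeis.mul_self_eq_one_iff, hx]
    exact one_ne_zero
  have hxa : (x ^ 2).a = 0 := by
    rw [pow_two, mul_a, CharTwo.add_self_eq_zero]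
  obtain ⟨s, hs2⟩ : ∃ s, (emb σ (x ^ 2)).1.1 = um 0 s 0 := by
    refine ⟨(x ^ 2).b, ?_⟩
    rw [emb_val, umat, hxa, map_zero, um]
  have key := cert_of (e (emb σ x)) (e Y) (n := r + 2) ?_ ?_ ?_ ?_ ?_ ?_
  · exact key
  · rw [← map_pow, ← map_pow, show 4 = 2 * 2 by norm_num, pow_mul, pow_two (x ^ 2),
      (Cfsg.Agent.LieRecognition.HermHeis.mul_self_eq_one_iff _).2 hxa, map_one, map_one]
  · intro h1
    rw [← map_pow, ← map_pow] at h1
    have h3 : emb σ (x ^ 2) ∈ Subgroup.center (SUJ σ) := by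
      rw [Subgroup.mem_center_iff] at h1 ⊢
      intro g
      apply e.injective
      rw [map_mul, map_mul]
      exact h1 (e g)
    exact hxx (eq_one_of_mem_center h3)
  · intro h1
    have h3 : Y ∈ Subgroup.center (SUJ σ) := by
      rw [Subgroup.mem_center_iff] at h1 ⊢
      intro g
      apply e.injective
      rw [map_mul, map_mul]
      exact h1 (e g)
    rw [Subgroup.mem_center_iff] at h3
    have h4 := congrArg (fun g : SUJ σ => g.1.1) (h3 (emb σ x))
    change umat x * dm b (b⁻¹ ^ 2) = dm b (b⁻¹ ^ 2) * umat x at h4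
    have h5 := congrFun (congrFun h4 0) 1
    simp [umat, dm, Matrix.mul_apply, Fin.sum_univ_three, hx] at h5
    apply hb3
    field_simp at h5
    exact h5.symm
  · rw [Nat.even_add_one, Nat.not_even_iff_odd] at hev
    exact hev.add_even (by decide)
  · rw [← map_pow]
    have h1 : Y ^ (r + 2) = 1 := by
      apply Subtype.ext
      apply Subtype.ext
      rw [Subgroup.coe_pow, Matrix.SpecialLinearGroup.coe_pow]
      change dm b (b⁻¹ ^ 2) ^ _ = 1
      rw [dm_pow, ← pow_mul, mul_comm 2, pow_mul, inv_pow, hb1, inv_one, one_pow, dm_one]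
    rw [h1, map_one]
  · rw [← map_pow, ← map_pow, ← map_mul, ← map_mul]
    congr 1
    apply Subtype.ext
    apply Subtype.ext
    change (emb σ (x ^ 2)).1.1 * dm b (b⁻¹ ^ 2) = dm b (b⁻¹ ^ 2) * (emb σ (x ^ 2)).1.1
    rw [hs2, um_dm]

end Cfsg.Agent.H264.CertLU3
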